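import Cfsg.Prelude.Def_KGroupFacts
import Cfsg.Agent.Lib.Components.GenFitting

/-!
A group with generalised Fitting subgroup a given centreless `L` with outer automorphism group `S₄`
and quotient `S₃` is the preimage in `Aut L` of a point stabiliser of `S₄`, so is unique.
-/

set_option autoImplicit false

namespace Cfsg.Agent.Lib.POmegaEight

theorem perm4_unique_fixed : ∀ c : Equiv.Perm (Fin 4), c ^ 3 = 1 → c ≠ 1 →
    ∃ d, c d = d ∧ ∀ b, c b = b → b = d := by
  decide +kernel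

/-- A subgroup of order six of `S₄` is a point stabiliser. -/
theorem eq_stabilizer_of_card_six (H : Subgroup (Equiv.Perm (Fin 4))) (hH : Nat.card H = 6) :
    ∃ d : Fin 4, H = MulAction.stabilizer (Equiv.Perm (Fin 4)) d := by
  have : Fact (Nat.Prime 3) := ⟨by norm_num⟩
  obtain ⟨c, hc⟩ := exists_prime_orderOf_dvd_card' (G := H) 3 (by rw [hH]; norm_num)
  have hc3 : (c : Equiv.Perm (Fin 4)) ^ 3 = 1 := by
    rw [← Subgroup.coe_pow, ← hc, pow_orderOf_eq_one, Subgroup.coe_one]
  have hc1 : (c : Equiv.Perm (Fin 4)) ≠ 1 := fun e => by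
    have : c = 1 := Subtype.ext e
    rw [this, orderOf_one] at hc; omega
  obtain ⟨d, hd, huniq⟩ := perm4_unique_fixed c hc3 hc1
  have hidx : (Subgroup.zpowers c).index = 2 := by
    have := Subgroup.card_mul_index (Subgroup.zpowers c)
    rw [Nat.card_zpowers, hc, hH] at this
    omega
  have hn := Subgroup.normal_of_index_eq_two hidx
  refine ⟨d, Subgroup.eq_of_le_of_card_ge (fun h hh => ?_) ?_⟩
  · rw [MulAction.mem_stabilizer_iff]
    refine huniq _ ?_
    obtain ⟨k, hk⟩ := hn.conj_mem c (Subgroup.mem_zpowers c) (⟨h, hh⟩⁻¹ : H)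
    have hfix : ((c : Equiv.Perm (Fin 4)) ^ k) d = d := Equiv.Perm.zpow_apply_eq_self_of_apply_eq_self hd k
    have e : (c : Equiv.Perm (Fin 4)) * h = h * (c : Equiv.Perm (Fin 4)) ^ k := by
      have := congrArg (Subtype.val : H → _) hk
      simp only [SubgroupClass.coe_zpow, Subgroup.coe_mul, Subgroup.coe_inv, inv_inv] at this
      rw [this]; group
    have := DFunLike.congr_fun e d
    simp only [Equiv.Perm.mul_apply, hfix] at this
    exact this
  · have h1 := MulAction.index_stabilizer_of_transitive (Equiv.Perm (Fin 4)) d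
    have h2 := Subgroup.card_mul_index (MulAction.stabilizer (Equiv.Perm (Fin 4)) d)
    rw [h1, Nat.card_perm, Nat.card_fin] at h2
    generalize Nat.card ↥(MulAction.stabilizer (Equiv.Perm (Fin 4)) d) = n at h2 ⊢
    norm_num [Nat.factorial] at h2
    rw [hH]; omega

variable {L : Type} [Group L]

/-- The automorphisms whose outer class fixes `d`. -/
def outStab (e0 : Cfsg.Out L ≃* Equiv.Perm (Fin 4)) (d : Fin 4) : Subgroup (MulAut L) :=
  (MulAction.stabilizer (Equiv.Perm (Fin 4)) d).comap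
    (e0.toMonoidHom.comp (QuotientGroup.mk' (Cfsg.Inn L)))

/-- A faithful copy of an extension by `S₃` in the automorphism group. -/
theorem exists_embedding (hL : Subgroup.center L = ⊥) (e0 : Cfsg.Out L ≃* Equiv.Perm (Fin 4))
    {G : Type*} [Group G] [Finite G] (N : Subgroup G) (hN : N = Cfsg.generalizedFittingSubgroup G)
    [hn : N.Normal] (e : ↥N ≃* L) (hq : Nonempty (G ⧸ N ≃* Equiv.Perm (Fin 3))) :
    ∃ (d : Fin 4) (φ : G →* MulAut L), Function.Injective φ ∧ φ.range = outStab e0 d ∧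
      ∀ (g : G) (x : N), φ g (e x) = e ⟨g * x * g⁻¹, hn.conj_mem _ x.2 g⟩ := by
  let φ : G →* MulAut L := (MulAut.congr e).toMonoidHom.comp (MulAut.conjNormal (H := N))
  have hφ : ∀ (g : G) (x : N), φ g (e x) = e ⟨g * x * g⁻¹, hn.conj_mem _ x.2 g⟩ := by
    intro g x
    show e (MulAut.conjNormal g (e.symm (e x))) = _
    rw [MulEquiv.symm_apply_apply]
    congr 1
  have hinj : Function.Injective φ := by
    rw [← MonoidHom.ker_eq_bot_iff, eq_bot_iff]
    intro g hg
    rw [MonoidHom.mem_ker] at hg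
    have hfix : ∀ x : N, g * x * g⁻¹ = x := fun x => by
      have := hφ g x
      rw [hg, MulAut.one_apply] at this
      exact (congrArg Subtype.val (e.injective this)).symm
    have hgN : g ∈ N := by
      rw [hN]
      refine Components.centralizer_generalizedFittingSubgroup_le ?_
      rw [← hN, Subgroup.mem_centralizer_iff]
      intro x hx
      exact (mul_inv_eq_iff_eq_mul.1 (hfix ⟨x, hx⟩)).symm
    have hc : (e ⟨g, hgN⟩ : L) ∈ Subgroup.center L := by
      rw [Subgroup.mem_center_iff]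
      intro y
      obtain ⟨x, rfl⟩ := e.surjective y
      rw [← map_mul, ← map_mul]
      exact congrArg e (Subtype.ext (mul_inv_eq_iff_eq_mul.1 (hfix x)).symm)
    rw [hL, Subgroup.mem_bot, ← map_one e] at hc
    exact Subgroup.mem_bot.2 (congrArg Subtype.val (e.injective hc))
  have hconj : ∀ x : N, φ x = MulAut.conj (e x) := fun x => MulEquiv.ext fun y => by
    obtain ⟨z, rfl⟩ := e.surjective y
    rw [hφ, MulAut.conj_apply, ← map_inv, ← map_mul, ← map_mul]
    congr 1
  have hNmap : N.map φ = Cfsg.Inn L := by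
    ext a
    constructor
    · rintro ⟨x, hx, rfl⟩
      exact ⟨e ⟨x, hx⟩, (hconj ⟨x, hx⟩).symm⟩
    · rintro ⟨y, rfl⟩
      obtain ⟨x, rfl⟩ := e.surjective y
      exact ⟨x, x.2, hconj x⟩
  let ψ : G →* Equiv.Perm (Fin 4) := (e0.toMonoidHom.comp (QuotientGroup.mk' (Cfsg.Inn L))).comp φ
  have hker : ψ.ker = N := by
    ext g
    rw [MonoidHom.mem_ker]
    show e0 (QuotientGroup.mk' (Cfsg.Inn L) (φ g)) = 1 ↔ g ∈ N
    rw [MulEquiv.map_eq_one_iff, QuotientGroup.mk'_apply, QuotientGroup.eq_one_iff, ← hNmap]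
    exact Subgroup.mem_map_iff_mem hinj
  have hcard : Nat.card ψ.range = 6 := by
    rw [← Subgroup.index_ker, hker, Subgroup.index_eq_card, Nat.card_congr hq.some.toEquiv,
      Nat.card_perm, Nat.card_fin]
    rfl
  obtain ⟨d, hd⟩ := eq_stabilizer_of_card_six _ hcard
  refine ⟨d, φ, hinj, le_antisymm ?_ ?_, hφ⟩
  · rintro a ⟨g, rfl⟩
    show ψ g ∈ MulAction.stabilizer (Equiv.Perm (Fin 4)) d
    rw [← hd]; exact ⟨g, rfl⟩
  · intro a ha
    change e0 (QuotientGroup.mk' (Cfsg.Inn L) a) ∈ MulAction.stabilizer (Equiv.Perm (Fin 4)) d at ha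
    rw [← hd] at ha
    obtain ⟨g, hg⟩ := ha
    have e1 : QuotientGroup.mk' (Cfsg.Inn L) (φ g) = QuotientGroup.mk' (Cfsg.Inn L) a :=
      e0.injective hg
    rw [QuotientGroup.mk'_eq_mk'] at e1
    obtain ⟨z, hz, rfl⟩ := e1
    rw [← hNmap] at hz
    obtain ⟨x, -, rfl⟩ := hz
    exact ⟨g * x, map_mul φ g x⟩

theorem outStab_swap (e0 : Cfsg.Out L ≃* Equiv.Perm (Fin 4)) (d d' : Fin 4) :
    ∃ a : MulAut L, (outStab e0 d).map (MulAut.conj a).toMonoidHom = outStab e0 d' := by
  obtain ⟨a, ha⟩ := QuotientGroup.mk'_surjective (Cfsg.Inn L) (e0.symm (Equiv.swap d d'))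
  refine ⟨a, ?_⟩
  ext b
  rw [Subgroup.mem_map_equiv]
  show e0 (QuotientGroup.mk' (Cfsg.Inn L) ((MulAut.conj a).symm b)) ∈
      MulAction.stabilizer (Equiv.Perm (Fin 4)) d ↔
    e0 (QuotientGroup.mk' (Cfsg.Inn L) b) ∈ MulAction.stabilizer (Equiv.Perm (Fin 4)) d'
  simp only [MulAut.conj_symm_apply, map_mul, map_inv]
  rw [ha,
    MulEquiv.apply_symm_apply, MulAction.mem_stabilizer_iff, MulAction.mem_stabilizer_iff]
  simp only [Equiv.Perm.smul_def, Equiv.Perm.mul_apply, Equiv.swap_inv, Equiv.swap_apply_left,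
    Equiv.swap_apply_eq_iff]

/-- Uniqueness of the extension. -/
theorem nonempty_mulEquiv (hL : Subgroup.center L = ⊥) (e0 : Cfsg.Out L ≃* Equiv.Perm (Fin 4))
    {G G' : Type*} [Group G] [Finite G] [Group G'] [Finite G']
    (hF : Nonempty (↥(Cfsg.generalizedFittingSubgroup G) ≃* L))
    (hF' : Nonempty (↥(Cfsg.generalizedFittingSubgroup G') ≃* L))
    [hn : (Cfsg.generalizedFittingSubgroup G).Normal]
    [hn' : (Cfsg.generalizedFittingSubgroup G').Normal]
    (hq : Nonempty (G ⧸ Cfsg.generalizedFittingSubgroup G ≃* Equiv.Perm (Fin 3)))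
    (hq' : Nonempty (G' ⧸ Cfsg.generalizedFittingSubgroup G' ≃* Equiv.Perm (Fin 3))) :
    Nonempty (G ≃* G') := by
  obtain ⟨d, φ, hi, hr, -⟩ := exists_embedding hL e0 _ rfl hF.some hq
  obtain ⟨d', φ', hi', hr', -⟩ := exists_embedding hL e0 _ rfl hF'.some hq'
  obtain ⟨a, ha⟩ := outStab_swap e0 d d'
  exact ⟨(MonoidHom.ofInjective hi).trans ((MulEquiv.subgroupCongr hr).trans
    (((Subgroup.equivMapOfInjective _ _ (MulAut.conj a).injective).trans
      (MulEquiv.subgroupCongr ha)).trans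
      ((MulEquiv.subgroupCongr hr').symm.trans (MonoidHom.ofInjective hi').symm)))⟩

end Cfsg.Agent.Lib.POmegaEight
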